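import Cfsg.Agent.Nodes.NormalForm

/-!
# The stabilizer sum of a torsion point of the torus (S5745, class sizes; helper275)

`c` a dominant functional on the root lattice with `c a < n` for all roots `a` (an alcove point with `c₀ ≠ 0`), `Ψ` the set
of roots with `n ∣ c a`, `S` a set of `w` with `n ∣ c (w a) - c a` for all roots `a`:

* `exists_pos` : `c = c ∘ y`, `φ ∘ y` positive on the positive roots of `Ψ`;
* `sum_zero` : `q ^ (N - N_Ψ) ∑_{c ∘ e = c} q ^ #{a ∈ Ψ⁺ : e a < 0} ≤ ∑_{w ∈ W} q ^ ℓ(w)`;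
* `sum_le` : the same sum over `S` is at most `κ` times this one, `κ = 1 + #{i : m i = 1}`.
-/

set_option autoImplicit false
set_option linter.unusedSectionVars false

namespace Cfsg.Agent.H275.CS.Sum

open CoxeterSystem Cfsg.Agent.ChevalleyStructure.CoxeterGeom Cfsg.Agent.Tits.Roots Cfsg.Agent.Tits.Core
  Cfsg.Agent.Nodes Cfsg.Agent.Nodes.Reps Cfsg.Agent.Nodes.BNOf Cfsg.Agent.Nodes.NormalForm

variable {I W : Type*} [Fintype I] [DecidableEq I] [Group W] {M : CoxeterMatrix I}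
  {cs : CoxeterSystem M W} {A : I → I → ℤ} {h : IsCartan M A}

/-- an additive functional is determined by the simple roots -/
theorem apply_eq (c : (I → ℤ) →+ ℤ) (x : I → ℤ) : c x = ∑ i, x i * c (sr i) := by
  have e : x = ∑ i, x i • (sr i : I → ℤ) := by
    funext j
    rw [Finset.sum_apply, Finset.sum_eq_single j]
    · rw [Pi.smul_apply, sr_self, smul_eq_mul, mul_one]
    · intro b _ hb
      rw [Pi.smul_apply, sr_ne (Ne.symm hb), smul_zero]
    · intro h1
      exact absurd (Finset.mem_univ j) h1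
  conv_lhs => rw [e]
  rw [map_sum]
  exact Finset.sum_congr rfl fun j _ => by rw [map_zsmul, smul_eq_mul]

theorem ext_sr {c c' : (I → ℤ) →+ ℤ} (hc : ∀ i, c (sr i) = c' (sr i)) (x : I → ℤ) : c x = c' x := by
  rw [apply_eq, apply_eq c']
  exact Finset.sum_congr rfl fun i _ => by rw [hc]

/-- the pullback -/
def pb (cs : CoxeterSystem M W) (h : IsCartan M A) (c : (I → ℤ) →+ ℤ) (w : W) : (I → ℤ) →+ ℤ :=
  c.comp (rep cs h w).toAddMonoidHom

theorem pb_apply (c : (I → ℤ) →+ ℤ) (w : W) (x : I → ℤ) : pb cs h c w x = c (rep cs h w x) := rfl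

/-- the height -/
def ht : (I → ℤ) →+ ℤ where
  toFun x := ∑ i, x i
  map_zero' := by simp
  map_add' x y := by rw [← Finset.sum_add_distrib]; rfl

theorem ht_pos {x : I → ℤ} (hx : IsRoot cs h x) (h0 : 0 ≤ x) : 0 < ht x := by
  have h1 : 0 ≤ ht x := Finset.sum_nonneg fun i _ => h0 i
  refine lt_of_le_of_ne h1 fun e => hx.ne_zero ?_
  funext i
  exact (Finset.sum_eq_zero_iff_of_nonneg fun i _ => h0 i).1 e.symm i (Finset.mem_univ i)

theorem ht_neg {x : I → ℤ} (hx : IsRoot cs h x) (h0 : x ≤ 0) : ht x < 0 := by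
  have h1 := ht_pos hx.neg (neg_nonneg.2 h0)
  rw [map_neg] at h1
  omega

theorem nonneg_of_ht {x : I → ℤ} (hx : IsRoot cs h x) (h0 : 0 < ht x) : 0 ≤ x := by
  rcases hx.pos_or_neg with h1 | h1
  · exact h1
  · have := ht_neg hx h1
    omega

variable (c : (I → ℤ) →+ ℤ) (hc : ∀ i, 0 ≤ c (sr i))

include hc in
theorem c_nonneg {x : I → ℤ} (h0 : 0 ≤ x) : 0 ≤ c x := by
  rw [apply_eq]
  exact Finset.sum_nonneg fun i _ => mul_nonneg (h0 i) (hc i)

include hc in
theorem nonneg_of_c {x : I → ℤ} (hx : IsRoot cs h x) (h0 : 0 < c x) : 0 ≤ x := by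
  rcases hx.pos_or_neg with h1 | h1
  · exact h1
  · have h2 := c_nonneg c hc (x := -x) (neg_nonneg.2 h1)
    rw [map_neg] at h2
    omega

include hc in
/-- positive roots of `Ψ` are combinations of simple roots of `Ψ` -/
theorem supp_zero {x : I → ℤ} (h0 : 0 ≤ x) (h1 : c x = 0) (i : I) (hi : x i ≠ 0) : c (sr i) = 0 := by
  rw [apply_eq] at h1
  have h2 := (Finset.sum_eq_zero_iff_of_nonneg fun i _ => mul_nonneg (h0 i) (hc i)).1 h1 i (Finset.mem_univ i)
  exact (mul_eq_zero.1 h2).resolve_left hi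

theorem pb_simple {i : I} (hi : c (sr i) = 0) (x : I → ℤ) : c (rep cs h (cs.simple i) x) = c x := by
  rw [rep_simple_eq, map_sub, map_zsmul, hi, smul_zero, sub_zero]

variable (P : Finset (I → ℤ)) (hP : ∀ x, x ∈ P ↔ IsRoot cs h x ∧ 0 ≤ x)

include hc hP in
/-- **positivity on the positive roots of `Ψ`** -/
theorem exists_pos [Finite W] (φ : (I → ℤ) →+ ℤ) (hφ : ∀ x, IsRoot cs h x → φ x ≠ 0) :
    ∃ y : W, (∀ x, c (rep cs h y x) = c x) ∧ ∀ a ∈ P, c a = 0 → 0 < φ (rep cs h y a) := by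
  classical
  let K := {y : W // ∀ x, c (rep cs h y x) = c x}
  have hne : Nonempty K := ⟨⟨1, fun x => by rw [map_one]; rfl⟩⟩
  have hfin : Finite K := inferInstance
  let f : K → ℕ := fun y => (P.filter (fun a => c a = 0 ∧ φ (rep cs h y.1 a) < 0)).card
  obtain ⟨⟨y, hy⟩, hmin⟩ := Finite.exists_min f
  refine ⟨y, hy, fun a ha ha0 => ?_⟩
  by_contra hcon
  obtain ⟨har, ha1⟩ := (hP a).1 ha
  have hlt : φ (rep cs h y a) < 0 := lt_of_le_of_ne (not_lt.1 hcon) (hφ _ (har.act y))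
  -- a simple root
  obtain ⟨i, hi0, hi⟩ : ∃ i, c (sr i) = 0 ∧ φ (rep cs h y (sr i)) < 0 := by
    by_contra hno
    push Not at hno
    have h1 : 0 ≤ pb cs h φ y a := by
      rw [apply_eq]
      refine Finset.sum_nonneg fun i _ => ?_
      by_cases hi : a i = 0
      · rw [hi, zero_mul]
      · exact mul_nonneg (ha1 i) (hno i (supp_zero c hc ha1 ha0 i hi))
    rw [pb_apply] at h1
    omega
  have hs : ∀ x, c (rep cs h (y * cs.simple i) x) = c x := fun x => by
    rw [rep_mul_apply, hy, pb_simple c hi0]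
  have h1 := hmin ⟨y * cs.simple i, hs⟩
  have hsi : (sr i : I → ℤ) ∈ P.filter (fun a => c a = 0 ∧ φ (rep cs h y a) < 0) :=
    Finset.mem_filter.2 ⟨(hP _).2 ⟨isRoot_sr cs h i, sr_nonneg i⟩, hi0, hi⟩
  have h2 : (P.filter (fun a => c a = 0 ∧ φ (rep cs h (y * cs.simple i) a) < 0)).card <
      (P.filter (fun a => c a = 0 ∧ φ (rep cs h y a) < 0)).card := by
    refine lt_of_le_of_lt (Finset.card_le_card_of_injOn (t := (P.filter (fun a => c a = 0 ∧
      φ (rep cs h y a) < 0)).erase (sr i)) (fun a => rep cs h (cs.simple i) a) ?_ ?_)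
      (Finset.card_erase_lt_of_mem hsi)
    · intro b hb
      obtain ⟨hbP, hb0, hb1⟩ := Finset.mem_filter.1 (Finset.mem_coe.1 hb)
      obtain ⟨hbr, hb2⟩ := (hP b).1 hbP
      rw [rep_mul_apply] at hb1
      have hne : b ≠ sr i := by
        rintro rfl
        rw [rep_simple_sr, map_neg, map_neg] at hb1
        omega
      refine Finset.mem_coe.2 (Finset.mem_erase.2 ⟨fun e => ?_, Finset.mem_filter.2 ⟨(hP _).2 ⟨hbr.act _,
        hbr.simple_nonneg hb2 i hne⟩, by rw [pb_simple c hi0, hb0], hb1⟩⟩)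
      have h3 := congrArg (rep cs h (cs.simple i)) e
      rw [← rep_mul_apply, cs.simple_mul_simple_self, map_one, rep_simple_sr] at h3
      have h4 : b = - sr i := h3
      have h5 := hb2 i
      rw [h4, Pi.neg_apply, sr_self] at h5
      simp at h5
    · intro b _ b' _ e
      have h3 := congrArg (rep cs h (cs.simple i)) e
      simp only [] at h3
      rwa [← rep_mul_apply, ← rep_mul_apply, cs.simple_mul_simple_self, map_one] at h3
  exact absurd h1 (not_le.2 h2)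

/-- the number of positive roots of `Ψ` made negative by `w` -/
noncomputable def ni (cs : CoxeterSystem M W) (h : IsCartan M A) (Q : Finset (I → ℤ)) (w : W) : ℕ := by
  classical exact (Q.filter (fun a => rep cs h w a ≤ 0)).card

include hc hP in
/-- one stabilizer of a dominant functional -/
theorem sum_zero [Finite W] (q : ℕ) (hq : 0 < q) (E Wn : Finset W) (hE : ∀ e ∈ E, ∀ x, c (rep cs h e x) = c x)
    (hW : ∀ w, w ∈ Wn) (Q : Finset (I → ℤ)) (hQ : ∀ x, x ∈ Q ↔ x ∈ P ∧ c x = 0) :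
    q ^ (P.card - Q.card) * ∑ e ∈ E, q ^ ni cs h Q e ≤ ∑ w ∈ Wn, q ^ ni cs h P w := by
  classical
  -- the functional
  obtain ⟨K, hK⟩ : ∃ K : ℤ, ∀ a ∈ P, ht a < K := by
    refine ⟨(∑ a ∈ P, |ht a|) + 1, fun a ha => ?_⟩
    have h1 : |ht a| ≤ ∑ a ∈ P, |ht a| := Finset.single_le_sum (f := fun a => |ht a|) (fun b _ => abs_nonneg _) ha
    have h2 := le_abs_self (ht a)
    omega
  let φ : (I → ℤ) →+ ℤ := ht - K • c
  have hφ' : ∀ x, φ x = ht x - K * c x := fun x => rfl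
  have hφ0 : ∀ a ∈ P, c a = 0 → 0 < φ a := fun a ha h0 => by
    rw [hφ', h0, mul_zero, sub_zero]
    exact ht_pos ((hP a).1 ha).1 ((hP a).1 ha).2
  have hφ1 : ∀ a ∈ P, c a ≠ 0 → φ a < 0 := fun a ha h0 => by
    have h1 := c_nonneg c hc ((hP a).1 ha).2
    have h2 := hK a ha
    have h3 := ht_pos ((hP a).1 ha).1 ((hP a).1 ha).2
    have h4 : 1 ≤ c a := by omega
    rw [hφ']
    nlinarith
  have hφ : ∀ x, IsRoot cs h x → φ x ≠ 0 := fun x hx => by
    have key : ∀ a ∈ P, φ a ≠ 0 := fun a ha => by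
      by_cases h0 : c a = 0
      · exact (hφ0 a ha h0).ne'
      · exact (hφ1 a ha h0).ne
    rcases hx.pos_or_neg with h1 | h1
    · exact key x ((hP x).2 ⟨hx, h1⟩)
    · have h2 := key (-x) ((hP _).2 ⟨hx.neg, neg_nonneg.2 h1⟩)
      rw [map_neg] at h2
      exact fun h3 => h2 (by rw [h3, neg_zero])
  obtain ⟨y, -, hy⟩ := exists_pos (cs := cs) (h := h) 0 (fun i => le_refl _) P hP φ hφ
  have hy1 : ∀ b, IsRoot cs h b → 0 < φ b → rep cs h y⁻¹ b ∈ P := fun b hb h1 => by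
    rcases (hb.act y⁻¹).pos_or_neg with h2 | h2
    · exact (hP _).2 ⟨hb.act _, h2⟩
    · have h3 := hy _ ((hP _).2 ⟨(hb.act y⁻¹).neg, neg_nonneg.2 h2⟩) rfl
      rw [map_neg, rep_apply_inv, map_neg] at h3
      omega
  have hQP : Q ⊆ P := fun x hx => ((hQ x).1 hx).1
  have key : ∀ e ∈ E, ni cs h Q e + (P.card - Q.card) ≤ ni cs h P (e * y) := by
    intro e he
    have he' := hE e he
    let B1 := (Q.filter (fun a => rep cs h e a ≤ 0)).image (fun b => rep cs h y⁻¹ b)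
    let B2 := (P \ Q).image (fun b => -(rep cs h y⁻¹ b))
    have hi1 : Function.Injective (fun b => rep cs h y⁻¹ b) := fun b b' e1 => by
      have h3 := congrArg (rep cs h y) e1
      simp only [] at h3
      rwa [rep_apply_inv, rep_apply_inv] at h3
    have hi2 : Function.Injective (fun b => -(rep cs h y⁻¹ b)) := fun b b' e1 => hi1 (neg_injective e1)
    have hc1 : B1.card = ni cs h Q e := Finset.card_image_of_injective _ hi1
    have hc2 : B2.card = P.card - Q.card := by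
      rw [Finset.card_image_of_injective _ hi2, Finset.card_sdiff_of_subset hQP]
    have hd : Disjoint B1 B2 := by
      rw [Finset.disjoint_left]
      intro x hx1 hx2
      obtain ⟨b, hb, rfl⟩ := Finset.mem_image.1 hx1
      obtain ⟨b', hb', e1⟩ := Finset.mem_image.1 hx2
      have h1 : b = -b' := by
        have h3 := congrArg (rep cs h y) e1
        rw [map_neg, rep_apply_inv, rep_apply_inv] at h3
        exact h3.symm
      have h2 := (hP b).1 (hQP (Finset.mem_filter.1 hb).1)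
      have h3 := (hP b').1 (Finset.mem_sdiff.1 hb').1
      exact h2.1.not_pos_neg h2.2 (by rw [h1]; exact neg_nonpos.2 h3.2)
    have hsub : B1 ∪ B2 ⊆ P.filter (fun a => rep cs h (e * y) a ≤ 0) := by
      intro x hx
      rcases Finset.mem_union.1 hx with hx | hx
      · obtain ⟨b, hb, rfl⟩ := Finset.mem_image.1 hx
        obtain ⟨hb1, hb2⟩ := Finset.mem_filter.1 hb
        obtain ⟨hb3, hb4⟩ := (hQ b).1 hb1
        refine Finset.mem_filter.2 ⟨hy1 b ((hP b).1 hb3).1 (hφ0 b hb3 hb4), ?_⟩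
        rw [rep_mul_apply, rep_apply_inv]
        exact hb2
      · obtain ⟨b, hb, rfl⟩ := Finset.mem_image.1 hx
        obtain ⟨hb1, hb2⟩ := Finset.mem_sdiff.1 hb
        have hb3 : c b ≠ 0 := fun h0 => hb2 ((hQ b).2 ⟨hb1, h0⟩)
        obtain ⟨hb4, hb5⟩ := (hP b).1 hb1
        have h1 := hy1 (-b) hb4.neg (by
          have := hφ1 b hb1 hb3
          rw [map_neg]; omega)
        rw [map_neg] at h1
        refine Finset.mem_filter.2 ⟨h1, ?_⟩
        rw [rep_mul_apply, map_neg, rep_apply_inv, map_neg, neg_nonpos]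
        refine nonneg_of_c c hc (hb4.act e) ?_
        rw [he']
        exact lt_of_le_of_ne (c_nonneg c hc hb5) (Ne.symm hb3)
    calc ni cs h Q e + (P.card - Q.card) = (B1 ∪ B2).card := by rw [Finset.card_union_of_disjoint hd, hc1, hc2]
      _ ≤ _ := Finset.card_le_card hsub
  calc q ^ (P.card - Q.card) * ∑ e ∈ E, q ^ ni cs h Q e = ∑ e ∈ E, q ^ (ni cs h Q e + (P.card - Q.card)) := by
        rw [Finset.mul_sum]
        exact Finset.sum_congr rfl fun e _ => by rw [pow_add, mul_comm]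
    _ ≤ ∑ e ∈ E, q ^ ni cs h P (e * y) := Finset.sum_le_sum fun e he => Nat.pow_le_pow_right hq (key e he)
    _ = ∑ w ∈ E.image (fun e => e * y), q ^ ni cs h P w := by
        rw [Finset.sum_image]
        intro a _ b _ e1
        exact mul_right_cancel e1
    _ ≤ _ := Finset.sum_le_sum_of_subset fun w _ => hW w

/-- the roots of `Ψ` -/
def Psi (cs : CoxeterSystem M W) (h : IsCartan M A) (c : (I → ℤ) →+ ℤ) (n : ℕ) : Set (I → ℤ) :=
  {a | IsRoot cs h a ∧ (n : ℤ) ∣ c a}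

/-- the stabilizer modulo `n` -/
def St (cs : CoxeterSystem M W) (h : IsCartan M A) (c : (I → ℤ) →+ ℤ) (n : ℕ) (w : W) : Prop :=
  ∀ a, IsRoot cs h a → (n : ℤ) ∣ c (rep cs h w a) - c a

variable {n : ℕ}

theorem St.inv {c : (I → ℤ) →+ ℤ} {w : W} (hw : St cs h c n w) : St cs h c n w⁻¹ := fun a ha => by
  have h1 := hw _ (ha.act w⁻¹)
  rw [rep_apply_inv] at h1
  rw [← neg_sub]
  exact (dvd_neg).2 h1

section

variable (hlt : ∀ a, IsRoot cs h a → c a < n)

include hc hP hlt in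
theorem dvd_iff_zero {a : I → ℤ} (ha : a ∈ P) : (n : ℤ) ∣ c a ↔ c a = 0 := by
  constructor
  · intro h1
    exact Int.eq_zero_of_dvd_of_nonneg_of_lt (c_nonneg c hc ((hP a).1 ha).2) (hlt a ((hP a).1 ha).1) h1
  · intro h1
    rw [h1]
    exact dvd_zero _

include hc hP hlt in
/-- one fibre -/
theorem exists_rep [Finite W] (Q : Finset (I → ℤ)) (hQ : ∀ x, x ∈ Q ↔ x ∈ P ∧ c x = 0) {w : W} (hw : St cs h c n w) :
    ∃ w₁ : W, (∀ x, c (rep cs h w₁ x) = c (rep cs h w x)) ∧ Set.BijOn (fun a => rep cs h w₁ a) Q Q := by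
  classical
  obtain ⟨y, hy, hpos⟩ := exists_pos c hc P hP (pb cs h ht w⁻¹) (fun x hx => by
    rw [pb_apply]
    rcases (hx.act w⁻¹).pos_or_neg with h1 | h1
    · exact (ht_pos (hx.act _) h1).ne'
    · exact (ht_neg (hx.act _) h1).ne)
  have hy' : ∀ x, c (rep cs h y⁻¹ x) = c x := fun x => by
    have h1 := hy (rep cs h y⁻¹ x)
    rw [rep_apply_inv] at h1
    exact h1.symm
  refine ⟨y⁻¹ * w, fun x => by rw [rep_mul_apply, hy'], ?_⟩
  -- the inverse maps `Q` to `Q`
  have hmap : ∀ a ∈ Q, rep cs h (w⁻¹ * y) a ∈ Q := by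
    intro a ha
    obtain ⟨haP, ha0⟩ := (hQ a).1 ha
    obtain ⟨har, -⟩ := (hP a).1 haP
    have h1 : 0 < ht (rep cs h w⁻¹ (rep cs h y a)) := hpos a haP ha0
    rw [← rep_mul_apply] at h1
    have h2 : rep cs h (w⁻¹ * y) a ∈ P := (hP _).2 ⟨har.act _, nonneg_of_ht (har.act _) h1⟩
    refine (hQ _).2 ⟨h2, (dvd_iff_zero c hc P hP hlt h2).1 ?_⟩
    have h3 := hw.inv _ (har.act y)
    rw [← rep_mul_apply, hy, ha0, sub_zero] at h3
    exact h3
  have hinj : ∀ w : W, Set.InjOn (fun a => rep cs h w a) (Q : Set (I → ℤ)) := fun w a _ b _ e => by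
    have h3 := congrArg (rep cs h w⁻¹) e
    rw [rep_inv_apply, rep_inv_apply] at h3
    exact h3
  have himg : Q.image (fun a => rep cs h (w⁻¹ * y) a) = Q := by
    refine Finset.eq_of_subset_of_card_le (fun x hx => ?_) ?_
    · obtain ⟨a, ha, rfl⟩ := Finset.mem_image.1 hx
      exact hmap a ha
    · rw [Finset.card_image_of_injOn (hinj _)]
  have e0 : (y⁻¹ * w)⁻¹ = w⁻¹ * y := by group
  refine ⟨fun a ha => ?_, hinj _, fun b hb => ?_⟩
  · have h1 : a ∈ Q.image (fun a => rep cs h (w⁻¹ * y) a) := by rw [himg]; exact ha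
    obtain ⟨b, hb, rfl⟩ := Finset.mem_image.1 h1
    show rep cs h (y⁻¹ * w) (rep cs h (w⁻¹ * y) b) ∈ (Q : Set (I → ℤ))
    rw [← e0, rep_apply_inv]
    exact hb
  · refine ⟨rep cs h (w⁻¹ * y) b, hmap b hb, ?_⟩
    show rep cs h (y⁻¹ * w) (rep cs h (w⁻¹ * y) b) = b
    rw [← e0, rep_apply_inv]

include hc hP hlt in
/-- **the sum over one fibre** -/
theorem sum_fibre [Finite W] (q : ℕ) (Q : Finset (I → ℤ)) (hQ : ∀ x, x ∈ Q ↔ x ∈ P ∧ c x = 0) {w : W}
    (hw : St cs h c n w) (F E : Finset W) (hF : ∀ v ∈ F, ∀ x, c (rep cs h v x) = c (rep cs h w x))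
    (hE : ∀ e : W, (∀ x, c (rep cs h e x) = c x) → e ∈ E) :
    ∑ v ∈ F, q ^ ni cs h Q v ≤ ∑ e ∈ E, q ^ ni cs h Q e := by
  classical
  obtain ⟨w₁, h1, h2⟩ := exists_rep c hc P hP hlt Q hQ hw
  have key : ∀ e : W, ni cs h Q (e * w₁) = ni cs h Q e := by
    intro e
    unfold ni
    refine Finset.card_nbij (fun a => rep cs h w₁ a) ?_ ?_ ?_
    · intro a ha
      obtain ⟨ha1, ha2⟩ := Finset.mem_filter.1 ha
      rw [rep_mul_apply] at ha2
      exact Finset.mem_filter.2 ⟨h2.1 ha1, ha2⟩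
    · exact fun a ha b hb e => h2.2.1 (Finset.mem_filter.1 (Finset.mem_coe.1 ha)).1
        (Finset.mem_filter.1 (Finset.mem_coe.1 hb)).1 e
    · intro b hb
      obtain ⟨hb1, hb2⟩ := Finset.mem_filter.1 (Finset.mem_coe.1 hb)
      obtain ⟨a, ha, e⟩ := h2.2.2 (Finset.mem_coe.2 hb1)
      refine ⟨a, Finset.mem_coe.2 (Finset.mem_filter.2 ⟨ha, ?_⟩), e⟩
      have e' : rep cs h w₁ a = b := e
      rw [rep_mul_apply, e']
      exact hb2
  calc ∑ v ∈ F, q ^ ni cs h Q v = ∑ v ∈ F, q ^ ni cs h Q (v * w₁⁻¹) :=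
        Finset.sum_congr rfl fun v _ => by rw [← key (v * w₁⁻¹), inv_mul_cancel_right]
    _ = ∑ e ∈ F.image (fun v => v * w₁⁻¹), q ^ ni cs h Q e := by
        rw [Finset.sum_image]
        intro a _ b _ e1
        exact mul_right_cancel e1
    _ ≤ _ := by
        refine Finset.sum_le_sum_of_subset fun e he => ?_
        obtain ⟨v, hv, rfl⟩ := Finset.mem_image.1 he
        refine hE _ fun x => ?_
        rw [rep_mul_apply, hF v hv, ← h1, rep_apply_inv]

include hc hlt in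
/-- the possible differences -/
theorem diff_cases {θ : I → ℤ} (hθ : IsRoot cs h θ) (hm : ∀ i, 1 ≤ θ i) (hn : 0 < n) {w : W} (hw : St cs h c n w) :
    (∀ i, c (rep cs h w (sr i)) = c (sr i)) ∨
      ∃ i, θ i = 1 ∧ c (rep cs h w (sr i)) = c (sr i) - n ∧ ∀ j, j ≠ i → c (rep cs h w (sr j)) = c (sr j) := by
  classical
  have hgt : ∀ a, IsRoot cs h a → -(n : ℤ) < c a := fun a ha => by
    have h1 := hlt _ ha.neg
    rw [map_neg] at h1
    omega
  have hd : ∀ i, c (rep cs h w (sr i)) = c (sr i) ∨ c (rep cs h w (sr i)) = c (sr i) - n := by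
    intro i
    obtain ⟨m, hm'⟩ := hw _ (isRoot_sr cs h i)
    have h1 := hgt _ ((isRoot_sr cs h i).act w)
    have h2 := hlt _ ((isRoot_sr cs h i).act w)
    have h3 := hlt _ (isRoot_sr cs h i)
    have h4 := hc i
    have hn' : (0 : ℤ) < n := by exact_mod_cast hn
    have h5 : m < 1 := by
      by_contra hcon
      push Not at hcon
      nlinarith
    have h6 : -2 < m := by
      by_contra hcon
      push Not at hcon
      nlinarith
    rcases (by omega : m = 0 ∨ m = -1) with rfl | rfl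
    · left; linarith
    · right; linarith
  let d : I → ℤ := fun i => c (rep cs h w (sr i)) - c (sr i)
  have hd0 : ∀ i, d i ≤ 0 := fun i => by
    rcases hd i with e | e
    · show c (rep cs h w (sr i)) - c (sr i) ≤ 0
      omega
    · show c (rep cs h w (sr i)) - c (sr i) ≤ 0
      omega
  have hsum : -(2 * n : ℤ) < ∑ i, θ i * d i := by
    have h1 : ∑ i, θ i * d i = pb cs h c w θ - c θ := by
      rw [apply_eq (pb cs h c w) θ, apply_eq c θ, ← Finset.sum_sub_distrib]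
      exact Finset.sum_congr rfl fun i _ => mul_sub _ _ _
    rw [h1, pb_apply]
    have h2 := hgt _ (hθ.act w)
    have h3 := hlt _ hθ
    omega
  have hn' : (0 : ℤ) < n := by exact_mod_cast hn
  by_cases hall : ∀ i, c (rep cs h w (sr i)) = c (sr i)
  · exact Or.inl hall
  · right
    push Not at hall
    obtain ⟨i, hi⟩ := hall
    have hi' := (hd i).resolve_left hi
    have hdi : d i = -n := by
      show c (rep cs h w (sr i)) - c (sr i) = -n
      omega
    have hle : ∀ T : Finset I, ∑ i, θ i * d i ≤ ∑ i ∈ T, θ i * d i := fun T => by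
      rw [← Finset.sum_sdiff (Finset.subset_univ T)]
      have h1 : ∑ i ∈ Finset.univ \ T, θ i * d i ≤ 0 := Finset.sum_nonpos fun j _ =>
        mul_nonpos_of_nonneg_of_nonpos (by linarith [hm j]) (hd0 j)
      linarith
    refine ⟨i, ?_, hi', fun j hj => ?_⟩
    · have h1 := hle {i}
      rw [Finset.sum_singleton, hdi] at h1
      have h2 := hm i
      by_contra hcon
      have h3 : 2 ≤ θ i := by omega
      nlinarith
    · by_contra hcon
      have hj' := (hd j).resolve_left hcon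
      have hdj : d j = -n := by
        show c (rep cs h w (sr j)) - c (sr j) = -n
        omega
      have h1 := hle {i, j}
      rw [Finset.sum_pair (Ne.symm hj), hdi, hdj] at h1
      have h2 := hm i
      have h3 := hm j
      nlinarith

include hc hP hlt in
/-- **The stabilizer sum.** -/
theorem sum_le [Finite W] (q : ℕ) (hq : 0 < q) (hn : 0 < n) {θ : I → ℤ} (hθ : IsRoot cs h θ) (hm : ∀ i, 1 ≤ θ i)
    (Mn : Finset I) (hMn : ∀ i, θ i = 1 → i ∈ Mn) (Q : Finset (I → ℤ)) (hQ : ∀ x, x ∈ Q ↔ x ∈ P ∧ c x = 0)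
    (S Wn : Finset W) (hS : ∀ w ∈ S, St cs h c n w) (hW : ∀ w, w ∈ Wn) :
    q ^ (P.card - Q.card) * ∑ w ∈ S, q ^ ni cs h Q w ≤ (1 + Mn.card) * ∑ w ∈ Wn, q ^ ni cs h P w := by
  classical
  have : Fintype W := Fintype.ofFinite W
  let E : Finset W := Finset.univ.filter (fun e => ∀ x, c (rep cs h e x) = c x)
  have hE : ∀ e : W, (∀ x, c (rep cs h e x) = c x) → e ∈ E := fun e he =>
    Finset.mem_filter.2 ⟨Finset.mem_univ e, he⟩
  have h0 := sum_zero c hc P hP q hq E Wn (fun e he => (Finset.mem_filter.1 he).2) hW Q hQ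
  let P0 : W → Prop := fun w => ∀ i, c (rep cs h w (sr i)) = c (sr i)
  let P1 : I → W → Prop := fun i w => c (rep cs h w (sr i)) = c (sr i) - n ∧ ∀ j, j ≠ i →
    c (rep cs h w (sr j)) = c (sr j)
  have hfib : ∀ F : Finset W, F ⊆ S → (∀ v ∈ F, ∀ w ∈ F, ∀ i, c (rep cs h v (sr i)) = c (rep cs h w (sr i))) →
      ∑ v ∈ F, q ^ ni cs h Q v ≤ ∑ e ∈ E, q ^ ni cs h Q e := by
    intro F hF h1
    rcases F.eq_empty_or_nonempty with rfl | ⟨w, hw⟩
    · rw [Finset.sum_empty]
      exact Nat.zero_le _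
    · exact sum_fibre c hc P hP hlt q Q hQ (hS w (hF hw)) F E
        (fun v hv x => ext_sr (c := pb cs h c v) (c' := pb cs h c w) (fun i => h1 v hv w hw i) x) hE
  have h1 : ∑ w ∈ S, q ^ ni cs h Q w ≤ (∑ w ∈ S.filter P0, q ^ ni cs h Q w) +
      ∑ i ∈ Mn, ∑ w ∈ S.filter (P1 i), q ^ ni cs h Q w := by
    have h2 : ∀ w ∈ S, q ^ ni cs h Q w ≤ (if P0 w then q ^ ni cs h Q w else 0) +
        ∑ i ∈ Mn, if P1 i w then q ^ ni cs h Q w else 0 := by
      intro w hw
      rcases diff_cases c hc hlt hθ hm hn (hS w hw) with h3 | ⟨i, hi, h3⟩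
      · rw [if_pos (show P0 w from h3)]
        exact Nat.le_add_right _ _
      · refine le_trans ?_ (Nat.le_add_left _ _)
        refine le_trans ?_ (Finset.single_le_sum (f := fun i => if P1 i w then q ^ ni cs h Q w else 0)
          (fun _ _ => Nat.zero_le _) (hMn i hi))
        rw [if_pos (show P1 i w from h3)]
    refine (Finset.sum_le_sum h2).trans (le_of_eq ?_)
    rw [Finset.sum_add_distrib, Finset.sum_comm, ← Finset.sum_filter]
    congr 1
    exact Finset.sum_congr rfl fun i _ => by rw [← Finset.sum_filter]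
  have h2 : ∑ w ∈ S.filter P0, q ^ ni cs h Q w ≤ ∑ e ∈ E, q ^ ni cs h Q e :=
    hfib _ (Finset.filter_subset _ _) fun v hv w hw i => by
      rw [(Finset.mem_filter.1 hv).2 i, (Finset.mem_filter.1 hw).2 i]
  have h3 : ∀ i ∈ Mn, ∑ w ∈ S.filter (P1 i), q ^ ni cs h Q w ≤ ∑ e ∈ E, q ^ ni cs h Q e := fun i _ =>
    hfib _ (Finset.filter_subset _ _) fun v hv w hw j => by
      obtain ⟨a1, a2⟩ := (Finset.mem_filter.1 hv).2
      obtain ⟨b1, b2⟩ := (Finset.mem_filter.1 hw).2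
      by_cases hj : j = i
      · subst hj
        rw [a1, b1]
      · rw [a2 j hj, b2 j hj]
  have h4 : ∑ w ∈ S, q ^ ni cs h Q w ≤ (1 + Mn.card) * ∑ e ∈ E, q ^ ni cs h Q e := by
    refine h1.trans ?_
    have h5 := Finset.sum_le_card_nsmul Mn _ _ h3
    rw [smul_eq_mul] at h5
    rw [add_mul, one_mul]
    exact Nat.add_le_add h2 h5
  calc q ^ (P.card - Q.card) * ∑ w ∈ S, q ^ ni cs h Q w
      ≤ q ^ (P.card - Q.card) * ((1 + Mn.card) * ∑ e ∈ E, q ^ ni cs h Q e) := Nat.mul_le_mul_left _ h4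
    _ = (1 + Mn.card) * (q ^ (P.card - Q.card) * ∑ e ∈ E, q ^ ni cs h Q e) := by ring
    _ ≤ _ := Nat.mul_le_mul_left _ h0

include hc hP hlt in
/-- the same with the sets of the centralizer formula -/
theorem sum_le_ncard [Finite W] (q : ℕ) (hq : 0 < q) (hn : 0 < n) {θ : I → ℤ} (hθ : IsRoot cs h θ)
    (hm : ∀ i, 1 ≤ θ i) (Mn : Finset I) (hMn : ∀ i, θ i = 1 → i ∈ Mn) (S Wn : Finset W)
    (hS : ∀ w ∈ S, St cs h c n w) (hW : ∀ w, w ∈ Wn) :
    q ^ (P.card - (P.filter (fun a => c a = 0)).card) * ∑ w ∈ S, q ^ (NW cs h w ∩ Psi cs h c n).ncard ≤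
      (1 + Mn.card) * ∑ w ∈ Wn, q ^ (NW cs h w).ncard := by
  classical
  have h1 := sum_le c hc P hP hlt q hq hn hθ hm Mn hMn (P.filter (fun a => c a = 0))
    (fun x => Finset.mem_filter) S Wn hS hW
  have e1 : ∀ w : W, (NW cs h w ∩ Psi cs h c n).ncard = ni cs h (P.filter (fun a => c a = 0)) w := by
    intro w
    unfold ni
    rw [← Set.ncard_coe_finset]
    congr 1
    ext x
    rw [Finset.mem_coe, Finset.mem_filter, Finset.mem_filter]
    constructor
    · rintro ⟨⟨a1, a2, a3⟩, -, a4⟩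
      have hx := (hP x).2 ⟨a1, a2⟩
      exact ⟨⟨hx, (dvd_iff_zero c hc P hP hlt hx).1 a4⟩, a3⟩
    · rintro ⟨⟨a1, a2⟩, a3⟩
      exact ⟨⟨((hP x).1 a1).1, ((hP x).1 a1).2, a3⟩, ((hP x).1 a1).1, by rw [a2]; exact dvd_zero _⟩
  have e2 : ∀ w : W, (NW cs h w).ncard = ni cs h P w := by
    intro w
    unfold ni
    rw [← Set.ncard_coe_finset]
    congr 1
    ext x
    rw [Finset.mem_coe, Finset.mem_filter, hP]
    exact ⟨fun hx => ⟨⟨hx.1, hx.2.1⟩, hx.2.2⟩, fun hx => ⟨hx.1.1, hx.1.2, hx.2⟩⟩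
  simp only [e1, e2]
  exact h1

include hc hP hlt in
/-- the positive roots of `Ψ` -/
theorem card_pos : ({a | a ∈ Psi cs h c n ∧ 0 ≤ a} : Set (I → ℤ)).ncard = (P.filter (fun a => c a = 0)).card := by
  classical
  rw [← Set.ncard_coe_finset]
  congr 1
  ext x
  rw [Finset.mem_coe, Finset.mem_filter]
  constructor
  · rintro ⟨⟨a1, a2⟩, a3⟩
    have hx := (hP x).2 ⟨a1, a3⟩
    exact ⟨hx, (dvd_iff_zero c hc P hP hlt hx).1 a2⟩
  · rintro ⟨a1, a2⟩
    exact ⟨⟨((hP x).1 a1).1, by rw [a2]; exact dvd_zero _⟩, ((hP x).1 a1).2⟩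

end

end Cfsg.Agent.H275.CS.Sum
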