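import Cfsg.Agent.H897.IF.ENum
import Cfsg.Agent.H225.PPow.TwoCard
import Cfsg.Agent.Nodes.KindChev
import Cfsg.Agent.H275.CS.Sum

/-!
# The Poincaré sum of `W(E₆)`, `W(E₇)`, `W(E₈)` (S5745; helper275)

`poin_E6`, `poin_E7`, `poin_E8` : `(∑_w q ^ ℓ(w)) (q - 1) ^ l ≤ q ^ (N + l)` for a prime power `q`.
-/

set_option autoImplicit false
set_option linter.unusedSectionVars false

namespace Cfsg.Agent.H275.CS.Poin

open CoxeterSystem Cfsg Cfsg.Lie Cfsg.Lie.ChevalleyDatum
open Cfsg.Agent.ChevalleyStructure Cfsg.Agent.ChevalleyStructure.Elts Cfsg.Agent.ChevalleyStructure.CoxeterGeom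
  Cfsg.Agent.ChevalleyStructure.CoxeterGeomTypes Cfsg.Agent.ChevalleyStructure.NPerm
open Cfsg.Agent.Tits.Roots Cfsg.Agent.Tits.Core Cfsg.Agent.Nodes Cfsg.Agent.Nodes.Reps Cfsg.Agent.Nodes.BNOf
  Cfsg.Agent.Nodes.StabComb Cfsg.Agent.Nodes.Bruhat Cfsg.Agent.Nodes.LeviDec
  Cfsg.Agent.Nodes.RGDChev Cfsg.Agent.Nodes.NormalForm
open Cfsg.Agent.KFacts.RgdChevCoord (TT XX)

section

variable {D : ChevalleyDatum} {l : ℕ} {M : CoxeterMatrix (Fin l)} (hp : IsType D l M)
  {W : Type*} [Group W] (cs : CoxeterSystem M W)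

/-- the number of positive roots -/
theorem two_card (P : Finset (Fin l → ℤ)) (hP : ∀ x, x ∈ P ↔ IsRoot cs hp.isCartan x ∧ 0 ≤ x) :
    2 * P.card = D.nroots := by
  classical
  rw [← Cfsg.Agent.Nodes.KindChev.ncard_isRoot (cs := cs) (h := hp.isCartan) hp]
  have h1 : {x | IsRoot cs hp.isCartan x} = ((P ∪ P.image (fun x => -x) : Finset (Fin l → ℤ)) : Set (Fin l → ℤ)) := by
    ext x
    rw [Finset.coe_union, Finset.coe_image]
    constructor
    · intro hx
      have hx' : IsRoot cs hp.isCartan x := hx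
      rcases hx'.pos_or_neg with h0 | h0
      · exact Or.inl (Finset.mem_coe.2 ((hP x).2 ⟨hx', h0⟩))
      · exact Or.inr ⟨-x, Finset.mem_coe.2 ((hP _).2 ⟨hx'.neg, neg_nonneg.2 h0⟩), neg_neg x⟩
    · rintro (hx | ⟨y, hy, rfl⟩)
      · exact ((hP x).1 hx).1
      · exact ((hP y).1 hy).1.neg
  rw [h1, Set.ncard_coe_finset, Finset.card_union_of_disjoint, Finset.card_image_of_injective _ neg_injective,
    two_mul]
  rw [Finset.disjoint_left]
  intro x hx hx2
  obtain ⟨y, hy, rfl⟩ := Finset.mem_image.1 hx2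
  have h2 := (hP _).1 hx
  have h3 := (hP y).1 hy
  exact h3.1.not_pos_neg h3.2 (neg_nonneg.1 h2.2)

theorem poin_gen {K : Type} [Field K] [Fintype K] {p : ℕ} [Fact p.Prime] [CharP K p]
    (P : Finset (Fin l → ℤ)) (hP : ∀ x, x ∈ P ↔ IsRoot cs hp.isCartan x ∧ 0 ≤ x)
    (hnum : Nat.card (D.group K) * (Nat.card K - 1) ^ l ≤ Nat.card (TT D K) * Nat.card K ^ (2 * P.card + l))
    (Wn : Finset W) : (∑ w ∈ Wn, Nat.card K ^ (NW cs hp.isCartan w).ncard) * (Nat.card K - 1) ^ l ≤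
      Nat.card K ^ (P.card + l) := by
  classical
  have := finite_W hp cs
  have : Fintype W := Fintype.ofFinite W
  have : Fintype ↥(WJ cs (Set.univ : Set (Fin l))) := Fintype.ofFinite _
  have R := rgd (K := K) hp cs p
  have hX : ∀ x, IsRoot cs hp.isCartan x → Nat.card ↥(XX D l K x) = Nat.card K := fun x hx =>
    Cfsg.Agent.H897.IF.card_XX hp cs hx
  have h1 := Cfsg.Agent.H225.PPow.Card.card_PJ_gen R (Set.univ : Set (Fin l))
  have h2 : ∀ w : W, Nat.card ↥(RGD.Sup (XX D l K) (NW cs hp.isCartan w)) =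
      Nat.card K ^ (NW cs hp.isCartan w).ncard := fun w => Cfsg.Agent.H225.PPow.Card.card_Sup_NW R hX w
  have hPos : (P : Set (Fin l → ℤ)) = RGD.Pos cs hp.isCartan := by
    ext x
    exact hP x
  have h3 : Nat.card ↥(RGD.Sup (XX D l K) (RGD.Pos cs hp.isCartan)) = Nat.card K ^ P.card := by
    have h4 := Cfsg.Agent.Nodes.CardSup.card_sup R (s := P) (by rw [hPos]) (by
      rw [hPos]
      exact Cfsg.Agent.Nodes.Unique.closed_pos)
    rw [hPos] at h4
    rw [h4, Finset.prod_congr rfl (fun x hx => hX x ((hP x).1 hx).1), Finset.prod_const]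
  have h4 : ∑ w : ↥(WJ cs (Set.univ : Set (Fin l))), Nat.card ↥(RGD.Sup (XX D l K) (NW cs hp.isCartan (w : W))) =
      ∑ w : W, Nat.card K ^ (NW cs hp.isCartan w).ncard := by
    let E : ↥(WJ cs (Set.univ : Set (Fin l))) ≃ W :=
      { toFun := fun w => (w : W)
        invFun := fun w => ⟨w, mem_univ' cs w⟩
        left_inv := fun w => rfl
        right_inv := fun w => rfl }
    exact Fintype.sum_equiv E _ _ fun w => h2 w
  have h5 : ∑ w ∈ Wn, Nat.card K ^ (NW cs hp.isCartan w).ncard ≤ ∑ w : W, Nat.card K ^ (NW cs hp.isCartan w).ncard :=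
    Finset.sum_le_sum_of_subset (Finset.subset_univ Wn)
  have h6 : Nat.card ↥(PJ cs hp.isCartan (TT D K) (XX D l K) (Set.univ : Set (Fin l))) ≤ Nat.card (D.group K) :=
    Subgroup.card_le_card_group _
  have h7 : Nat.card ↥(PJ cs hp.isCartan (TT D K) (XX D l K) (Set.univ : Set (Fin l))) =
      Nat.card K ^ P.card * Nat.card (TT D K) * ∑ w : W, Nat.card K ^ (NW cs hp.isCartan w).ncard := by
    rw [← h3, ← h4]
    exact h1
  rw [h7] at h6
  have hq : 0 < Nat.card K := Nat.card_pos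
  have hT : 0 < Nat.card (TT D K) := Nat.card_pos
  have h8 : 0 < Nat.card K ^ P.card * Nat.card (TT D K) := Nat.mul_pos (pow_pos hq _) hT
  refine Nat.le_of_mul_le_mul_left (c := Nat.card K ^ P.card * Nat.card (TT D K)) ?_ h8
  calc Nat.card K ^ P.card * Nat.card (TT D K) *
        ((∑ w ∈ Wn, Nat.card K ^ (NW cs hp.isCartan w).ncard) * (Nat.card K - 1) ^ l)
      ≤ Nat.card K ^ P.card * Nat.card (TT D K) *
        ((∑ w : W, Nat.card K ^ (NW cs hp.isCartan w).ncard) * (Nat.card K - 1) ^ l) :=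
        Nat.mul_le_mul_left _ (Nat.mul_le_mul_right _ h5)
    _ = (Nat.card K ^ P.card * Nat.card (TT D K) * ∑ w : W, Nat.card K ^ (NW cs hp.isCartan w).ncard) *
          (Nat.card K - 1) ^ l := by ring
    _ ≤ Nat.card (D.group K) * (Nat.card K - 1) ^ l := Nat.mul_le_mul_right _ h6
    _ ≤ Nat.card (TT D K) * Nat.card K ^ (2 * P.card + l) := hnum
    _ = _ := by ring

end

section

variable {W : Type*} [Group W]

/-- a field of order `q` -/
theorem exists_field {q : ℕ} (hq : IsPrimePow q) : ∃ (K : Type) (_ : Field K) (_ : Fintype K) (p : ℕ)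
    (_ : Fact p.Prime) (_ : CharP K p), Nat.card K = q := by
  obtain ⟨p, e, hp, he, rfl⟩ := (isPrimePow_nat_iff q).1 hq
  have : Fact p.Prime := ⟨hp⟩
  exact ⟨GaloisField p e, inferInstance, Fintype.ofFinite _, p, this, inferInstance, GaloisField.card p e he.ne'⟩

theorem poin_E6 {M : CoxeterMatrix (Fin 6)} (hp : IsType chevE6 6 M) (cs : CoxeterSystem M W) {q : ℕ}
    (hq : IsPrimePow q) (Wn : Finset W) :
    (∑ w ∈ Wn, q ^ (NW cs hp.isCartan w).ncard) * (q - 1) ^ 6 ≤ q ^ 42 := by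
  classical
  have := finite_W hp cs
  obtain ⟨K, i1, i2, p, i3, i4, rfl⟩ := exists_field hq
  have hfin : (RGD.Pos cs hp.isCartan).Finite := (RGD.finite_roots (cs := cs) (h := hp.isCartan)).subset fun _ hx => hx.1
  have hP : ∀ x, x ∈ hfin.toFinset ↔ IsRoot cs hp.isCartan x ∧ 0 ≤ x := fun x => Set.Finite.mem_toFinset hfin
  have h1 : hfin.toFinset.card = 36 := by
    have h2 := two_card hp cs _ hP
    have h3 : chevE6.nroots = 72 := rfl
    omega
  have h2 := poin_gen hp cs (p := p) hfin.toFinset hP (by rw [h1]; exact Cfsg.Agent.H897.IF.num_E6 (K := K)) Wn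
  rw [h1] at h2
  exact h2

theorem poin_E7 {M : CoxeterMatrix (Fin 7)} (hp : IsType chevE7 7 M) (cs : CoxeterSystem M W) {q : ℕ}
    (hq : IsPrimePow q) (Wn : Finset W) :
    (∑ w ∈ Wn, q ^ (NW cs hp.isCartan w).ncard) * (q - 1) ^ 7 ≤ q ^ 70 := by
  classical
  have := finite_W hp cs
  obtain ⟨K, i1, i2, p, i3, i4, rfl⟩ := exists_field hq
  have hfin : (RGD.Pos cs hp.isCartan).Finite := (RGD.finite_roots (cs := cs) (h := hp.isCartan)).subset fun _ hx => hx.1
  have hP : ∀ x, x ∈ hfin.toFinset ↔ IsRoot cs hp.isCartan x ∧ 0 ≤ x := fun x => Set.Finite.mem_toFinset hfin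
  have h1 : hfin.toFinset.card = 63 := by
    have h2 := two_card hp cs _ hP
    have h3 : chevE7.nroots = 126 := rfl
    omega
  have h2 := poin_gen hp cs (p := p) hfin.toFinset hP (by rw [h1]; exact Cfsg.Agent.H897.IF.num_E7 (K := K)) Wn
  rw [h1] at h2
  exact h2

theorem poin_E8 {M : CoxeterMatrix (Fin 8)} (hp : IsType chevE8 8 M) (cs : CoxeterSystem M W) {q : ℕ}
    (hq : IsPrimePow q) (Wn : Finset W) :
    (∑ w ∈ Wn, q ^ (NW cs hp.isCartan w).ncard) * (q - 1) ^ 8 ≤ q ^ 128 := by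
  classical
  have := finite_W hp cs
  obtain ⟨K, i1, i2, p, i3, i4, rfl⟩ := exists_field hq
  have hfin : (RGD.Pos cs hp.isCartan).Finite := (RGD.finite_roots (cs := cs) (h := hp.isCartan)).subset fun _ hx => hx.1
  have hP : ∀ x, x ∈ hfin.toFinset ↔ IsRoot cs hp.isCartan x ∧ 0 ≤ x := fun x => Set.Finite.mem_toFinset hfin
  have h1 : hfin.toFinset.card = 120 := by
    have h2 := two_card hp cs _ hP
    have h3 : chevE8.nroots = 240 := rfl
    omega
  have h2 := poin_gen hp cs (p := p) hfin.toFinset hP (by rw [h1]; exact Cfsg.Agent.H897.IF.num_E8 (K := K)) Wn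
  rw [h1] at h2
  exact h2

end

end Cfsg.Agent.H275.CS.Poin
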