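import Cfsg.Agent.H275.CS.Det
import Cfsg.Agent.H275.CS.Poin
import Cfsg.Agent.H931.KC.Alcove

/-!
# The centralizer formula at an alcove point (S5745; helper275)

* `Alc` : `f` is given by Kac coordinates `c`, `c0`; `exists_alc`;
* `val_sharp`, `sharp_E6`, `sharp_E7`, `sharp_E8` : at an alcove point with `c0 ≠ 0`:
  `val * (q - 1) ^ l ≤ κ (q + 1) ^ l q ^ (2 |Ψ⁺| + l)`.
-/

set_option autoImplicit false
set_option linter.unusedSectionVars false

namespace Cfsg.Agent.H275.CS.Sharp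

open CoxeterSystem Cfsg Cfsg.Lie Cfsg.Lie.ChevalleyDatum
open Cfsg.Agent.ChevalleyStructure Cfsg.Agent.ChevalleyStructure.Elts Cfsg.Agent.ChevalleyStructure.CoxeterGeom
  Cfsg.Agent.ChevalleyStructure.CoxeterGeomTypes Cfsg.Agent.ChevalleyStructure.NPerm
open Cfsg.Agent.Tits.Roots Cfsg.Agent.Tits.Core Cfsg.Agent.Nodes Cfsg.Agent.Nodes.Reps Cfsg.Agent.Nodes.BNOf
  Cfsg.Agent.Nodes.RGDChev Cfsg.Agent.Nodes.NormalForm
open Cfsg.Agent.H129.TorusMain Cfsg.Agent.H972.CS.Torus Cfsg.Agent.H972.CS.Main Cfsg.Agent.H275.CS.Det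
open Cfsg.Agent.H931.KC (Kac hr exists_alcove dvd_iff exists_ok isRoot_hr le_hr)

variable {D : ChevalleyDatum} {l : ℕ} {M : CoxeterMatrix (Fin l)} (hp : IsType D l M)

/-- `f` has the Kac coordinates `c`, `c0` -/
structure Alc (D : ChevalleyDatum) {l s : ℕ} (f : (Fin l → ℤ) →+ ZMod s) (c : Fin l → ℕ) (c0 : ℕ) : Prop where
  kac : Kac D l s c c0
  eq : ∀ x : Fin l → ℤ, f x = ((∑ i, x i * (c i : ℤ) : ℤ) : ZMod s)

/-- the integral functional -/
def cf {l : ℕ} (c : Fin l → ℕ) : (Fin l → ℤ) →+ ℤ where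
  toFun x := ∑ i, x i * (c i : ℤ)
  map_zero' := by simp
  map_add' x y := by
    rw [← Finset.sum_add_distrib]
    exact Finset.sum_congr rfl fun i _ => by rw [Pi.add_apply]; ring

theorem cf_apply {l : ℕ} (c : Fin l → ℕ) (x : Fin l → ℤ) : cf c x = ∑ i, x i * (c i : ℤ) := rfl

theorem cf_sr {l : ℕ} (c : Fin l → ℕ) (i : Fin l) : cf c (sr i) = c i := by
  rw [cf_apply, Finset.sum_eq_single i]
  · rw [sr_self, one_mul]
  · intro j _ hj
    rw [sr_ne hj, zero_mul]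
  · intro h
    exact absurd (Finset.mem_univ i) h

include hp in
theorem exists_alc {s : ℕ} (hs : 0 < s) (f : (Fin l → ℤ) →+ ZMod s) :
    ∃ (v : M.Group) (c : Fin l → ℕ) (c0 : ℕ),
      Alc D (f.comp (rep M.toCoxeterSystem hp.isCartan v).toAddMonoidHom) c c0 := by
  have : NeZero s := ⟨hs.ne'⟩
  let b : (Fin l → ℤ) →+ ℤ := cf (fun i => (f (sr i)).val)
  have hb : ∀ x, ((b x : ℤ) : ZMod s) = f x := by
    intro x
    have e : x = ∑ i, x i • (sr i : Fin l → ℤ) := by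
      funext j
      rw [Finset.sum_apply, Finset.sum_eq_single j]
      · rw [Pi.smul_apply, sr_self, smul_eq_mul, mul_one]
      · intro b _ hb
        rw [Pi.smul_apply, sr_ne (Ne.symm hb), smul_zero]
      · intro h1
        exact absurd (Finset.mem_univ j) h1
    conv_rhs => rw [e]
    rw [map_sum, cf_apply, Int.cast_sum]
    refine Finset.sum_congr rfl fun i _ => ?_
    rw [map_zsmul, Int.cast_mul, zsmul_eq_mul, Int.cast_natCast, ZMod.natCast_zmod_val]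
  obtain ⟨w, c, c0, h1, h2⟩ := exists_alcove hp hs b
  refine ⟨w, c, c0, h1, fun x => ?_⟩
  have h3 := (ZMod.intCast_zmod_eq_zero_iff_dvd _ s).2 (h2 x)
  rw [Int.cast_sub, sub_eq_zero, hb] at h3
  exact h3.symm

/-- the positive roots -/
noncomputable def PP {l : ℕ} {M : CoxeterMatrix (Fin l)} {D : ChevalleyDatum} (hp : IsType D l M) :
    Finset (Fin l → ℤ) :=
  have := finite_W hp M.toCoxeterSystem
  ((RGD.finite_roots (cs := M.toCoxeterSystem) (h := hp.isCartan)).subset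
    (fun _ hx => hx.1 : RGD.Pos M.toCoxeterSystem hp.isCartan ⊆ _)).toFinset

theorem mem_PP (x : Fin l → ℤ) : x ∈ PP hp ↔ IsRoot M.toCoxeterSystem hp.isCartan x ∧ 0 ≤ x :=
  Set.Finite.mem_toFinset _

/-- **The sharp bound.** `c` is a dominant integral form of `f` with `c a < s` for all roots `a`. -/
theorem val_sharp {s : ℕ} (hs : 0 < s) {f : (Fin l → ℤ) →+ ZMod s} (c : (Fin l → ℤ) →+ ℤ) (hc : ∀ i, 0 ≤ c (sr i))
    (hlt : ∀ a, IsRoot M.toCoxeterSystem hp.isCartan a → c a < s) (hf : ∀ x, f x = 0 ↔ (s : ℤ) ∣ c x)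
    {g : (Fin l → ℤ) ≃+ (Fin l → ℤ)}
    (hg : ∀ a, IsRoot M.toCoxeterSystem hp.isCartan a → IsRoot M.toCoxeterSystem hp.isCartan (g a)) (w : M.Group)
    {q : ℕ} (hq : 0 < q) (hm : ∀ i, 1 ≤ hr D l i) (Mn : Finset (Fin l)) (hMn : ∀ i, hr D l i = 1 → i ∈ Mn)
    (hpoin : ∀ Wn : Finset M.Group, (∑ w ∈ Wn, q ^ (NW M.toCoxeterSystem hp.isCartan w).ncard) * (q - 1) ^ l ≤
      q ^ ((PP hp).card + l)) :
    ∃ Cw : Finset M.Group, Cov hp M.toCoxeterSystem g f w Cw ∧ val hp M.toCoxeterSystem g q f w Cw * (q - 1) ^ l ≤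
      (1 + Mn.card) * (q + 1) ^ l * q ^ (2 * (psi M.toCoxeterSystem hp.isCartan f).ncard + l) := by
  classical
  have := finite_W hp M.toCoxeterSystem
  have : Fintype M.Group := Fintype.ofFinite _
  obtain ⟨Bm, hv, v, C, HR⟩ := exists_ok hp
  let Cw : Finset M.Group := Finset.univ.filter fun v => ∀ y, f (rep M.toCoxeterSystem hp.isCartan v y) = f y
  have h1 := Sum.sum_le_ncard (cs := M.toCoxeterSystem) (h := hp.isCartan) c hc (PP hp) (mem_PP hp) hlt q hq hs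
    (isRoot_hr hp HR) hm Mn hMn Cw Finset.univ (fun w hw a _ => by
      have h2 := (Finset.mem_filter.1 hw).2 a
      rw [← sub_eq_zero, ← map_sub, hf, map_sub] at h2
      exact h2) (fun w => Finset.mem_univ w)
  have e1 : psi M.toCoxeterSystem hp.isCartan f = {a | a ∈ Sum.Psi M.toCoxeterSystem hp.isCartan c s ∧ 0 ≤ a} := by
    ext a
    constructor
    · rintro ⟨a1, a2, a3⟩
      exact ⟨⟨a1, (hf a).1 a3⟩, a2⟩
    · rintro ⟨⟨a1, a3⟩, a2⟩
      exact ⟨a1, a2, (hf a).2 a3⟩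
  have e2 : ∀ v : M.Group, psiN M.toCoxeterSystem hp.isCartan f v =
      NW M.toCoxeterSystem hp.isCartan v ∩ Sum.Psi M.toCoxeterSystem hp.isCartan c s := by
    intro v
    ext a
    constructor
    · rintro ⟨a1, a2, a3, a4⟩
      exact ⟨⟨a1, a2, a4⟩, a1, (hf a).1 a3⟩
    · rintro ⟨⟨a1, a2, a4⟩, -, a3⟩
      exact ⟨a1, a2, (hf a).2 a3, a4⟩
  have e3 := Sum.card_pos (cs := M.toCoxeterSystem) (h := hp.isCartan) c hc (PP hp) (mem_PP hp) hlt
  rw [← e1] at e3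
  refine ⟨Cw, fun v hv _ => Finset.mem_filter.2 ⟨Finset.mem_univ v, hv⟩, ?_⟩
  unfold val
  simp only [e2]
  rw [← e3] at h1
  set S := ∑ w ∈ Cw, q ^ (NW M.toCoxeterSystem hp.isCartan w ∩ Sum.Psi M.toCoxeterSystem hp.isCartan c s).ncard
    with hS
  have hle : (psi M.toCoxeterSystem hp.isCartan f).ncard ≤ (PP hp).card := by
    rw [e3]
    exact Finset.card_filter_le _ _
  set n0 := (psi M.toCoxeterSystem hp.isCartan f).ncard with hn0
  have h2 := det_theta_le hp M.toCoxeterSystem hg w q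
  have h3 : S * (q - 1) ^ l ≤ (1 + Mn.card) * q ^ (n0 + l) := by
    refine Nat.le_of_mul_le_mul_left (c := q ^ ((PP hp).card - n0)) ?_ (pow_pos hq _)
    calc q ^ ((PP hp).card - n0) * (S * (q - 1) ^ l) = q ^ ((PP hp).card - n0) * S * (q - 1) ^ l := by ring
      _ ≤ (1 + Mn.card) * (∑ w ∈ (Finset.univ : Finset M.Group), q ^ (NW M.toCoxeterSystem hp.isCartan w).ncard) *
          (q - 1) ^ l := Nat.mul_le_mul_right _ h1
      _ = (1 + Mn.card) * ((∑ w ∈ (Finset.univ : Finset M.Group), q ^ (NW M.toCoxeterSystem hp.isCartan w).ncard) *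
          (q - 1) ^ l) := by ring
      _ ≤ (1 + Mn.card) * q ^ ((PP hp).card + l) := Nat.mul_le_mul_left _ (hpoin _)
      _ = (1 + Mn.card) * (q ^ ((PP hp).card - n0) * q ^ (n0 + l)) := by
          rw [← pow_add]
          congr 2
          omega
      _ = _ := by ring
  calc (LinearMap.det (gq (theta hp M.toCoxeterSystem w g) q)).natAbs * (q ^ n0 * S) * (q - 1) ^ l
      = (LinearMap.det (gq (theta hp M.toCoxeterSystem w g) q)).natAbs * (q ^ n0 * (S * (q - 1) ^ l)) := by ring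
    _ ≤ (q + 1) ^ l * (q ^ n0 * ((1 + Mn.card) * q ^ (n0 + l))) :=
        Nat.mul_le_mul h2 (Nat.mul_le_mul_left _ h3)
    _ = _ := by
        rw [two_mul, add_assoc, pow_add q n0 (n0 + l)]
        ring

/-! ### the types `E₆`, `E₇`, `E₈` -/

section types

theorem card_PP_E6 {M : CoxeterMatrix (Fin 6)} (hp : IsType chevE6 6 M) : (PP hp).card = 36 := by
  have h2 := Poin.two_card hp M.toCoxeterSystem _ (mem_PP hp)
  have h3 : chevE6.nroots = 72 := rfl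
  omega

theorem card_PP_E7 {M : CoxeterMatrix (Fin 7)} (hp : IsType chevE7 7 M) : (PP hp).card = 63 := by
  have h2 := Poin.two_card hp M.toCoxeterSystem _ (mem_PP hp)
  have h3 : chevE7.nroots = 126 := rfl
  omega

theorem card_PP_E8 {M : CoxeterMatrix (Fin 8)} (hp : IsType chevE8 8 M) : (PP hp).card = 120 := by
  have h2 := Poin.two_card hp M.toCoxeterSystem _ (mem_PP hp)
  have h3 : chevE8.nroots = 240 := rfl
  omega

theorem hr_E6 : hr chevE6 6 = ![1, 2, 2, 3, 2, 1] := by decide +kernel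
theorem hr_E7 : hr chevE7 7 = ![2, 2, 3, 4, 3, 2, 1] := by decide +kernel
theorem hr_E8 : hr chevE8 8 = ![2, 3, 4, 6, 5, 4, 3, 2] := by decide +kernel

variable {s : ℕ} (hs : 0 < s) {q : ℕ} (hq : IsPrimePow q)

include hs hq

theorem sharp_E6 {M : CoxeterMatrix (Fin 6)} (hp : IsType chevE6 6 M) {f : (Fin 6 → ℤ) →+ ZMod s}
    (c : (Fin 6 → ℤ) →+ ℤ) (hc : ∀ i, 0 ≤ c (sr i))
    (hlt : ∀ a, IsRoot M.toCoxeterSystem hp.isCartan a → c a < s) (hf : ∀ x, f x = 0 ↔ (s : ℤ) ∣ c x)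
    {g : (Fin 6 → ℤ) ≃+ (Fin 6 → ℤ)}
    (hg : ∀ a, IsRoot M.toCoxeterSystem hp.isCartan a → IsRoot M.toCoxeterSystem hp.isCartan (g a)) (w : M.Group) :
    ∃ Cw : Finset M.Group, Cov hp M.toCoxeterSystem g f w Cw ∧ val hp M.toCoxeterSystem g q f w Cw * (q - 1) ^ 6 ≤
      3 * (q + 1) ^ 6 * q ^ (2 * (psi M.toCoxeterSystem hp.isCartan f).ncard + 6) :=
  val_sharp hp hs c hc hlt hf hg w hq.pos (by rw [hr_E6]; decide) {0, 5} (by rw [hr_E6]; decide)
    (fun Wn => by rw [card_PP_E6]; exact Poin.poin_E6 hp M.toCoxeterSystem hq Wn)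

theorem sharp_E7 {M : CoxeterMatrix (Fin 7)} (hp : IsType chevE7 7 M) {f : (Fin 7 → ℤ) →+ ZMod s}
    (c : (Fin 7 → ℤ) →+ ℤ) (hc : ∀ i, 0 ≤ c (sr i))
    (hlt : ∀ a, IsRoot M.toCoxeterSystem hp.isCartan a → c a < s) (hf : ∀ x, f x = 0 ↔ (s : ℤ) ∣ c x)
    {g : (Fin 7 → ℤ) ≃+ (Fin 7 → ℤ)}
    (hg : ∀ a, IsRoot M.toCoxeterSystem hp.isCartan a → IsRoot M.toCoxeterSystem hp.isCartan (g a)) (w : M.Group) :
    ∃ Cw : Finset M.Group, Cov hp M.toCoxeterSystem g f w Cw ∧ val hp M.toCoxeterSystem g q f w Cw * (q - 1) ^ 7 ≤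
      2 * (q + 1) ^ 7 * q ^ (2 * (psi M.toCoxeterSystem hp.isCartan f).ncard + 7) :=
  val_sharp hp hs c hc hlt hf hg w hq.pos (by rw [hr_E7]; decide) {6} (by rw [hr_E7]; decide)
    (fun Wn => by rw [card_PP_E7]; exact Poin.poin_E7 hp M.toCoxeterSystem hq Wn)

theorem sharp_E8 {M : CoxeterMatrix (Fin 8)} (hp : IsType chevE8 8 M) {f : (Fin 8 → ℤ) →+ ZMod s}
    (c : (Fin 8 → ℤ) →+ ℤ) (hc : ∀ i, 0 ≤ c (sr i))
    (hlt : ∀ a, IsRoot M.toCoxeterSystem hp.isCartan a → c a < s) (hf : ∀ x, f x = 0 ↔ (s : ℤ) ∣ c x)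
    {g : (Fin 8 → ℤ) ≃+ (Fin 8 → ℤ)}
    (hg : ∀ a, IsRoot M.toCoxeterSystem hp.isCartan a → IsRoot M.toCoxeterSystem hp.isCartan (g a)) (w : M.Group) :
    ∃ Cw : Finset M.Group, Cov hp M.toCoxeterSystem g f w Cw ∧ val hp M.toCoxeterSystem g q f w Cw * (q - 1) ^ 8 ≤
      1 * (q + 1) ^ 8 * q ^ (2 * (psi M.toCoxeterSystem hp.isCartan f).ncard + 8) :=
  val_sharp hp hs c hc hlt hf hg w hq.pos (by rw [hr_E8]; decide) ∅ (by rw [hr_E8]; decide)
    (fun Wn => by rw [card_PP_E8]; exact Poin.poin_E8 hp M.toCoxeterSystem hq Wn)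

end types

/-! ### Kac coordinates -/

variable {s : ℕ} {f : (Fin l → ℤ) →+ ZMod s} {c : Fin l → ℕ} {c0 : ℕ} (H : Alc D f c c0)

include H

theorem f_zero_iff (x : Fin l → ℤ) : f x = 0 ↔ (s : ℤ) ∣ cf c x := by
  rw [H.eq, ZMod.intCast_zmod_eq_zero_iff_dvd]
  rfl

include hp in
theorem lt_of_c0 (h0 : c0 ≠ 0) {a : Fin l → ℤ} (ha : IsRoot M.toCoxeterSystem hp.isCartan a) : cf c a < s := by
  obtain ⟨Bm, hv, v, C, HR⟩ := exists_ok hp
  have h1 := H.kac.sum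
  have h2 : cf c a ≤ ∑ i, hr D l i * (c i : ℤ) := Finset.sum_le_sum fun i _ =>
    mul_le_mul_of_nonneg_right (le_hr hp HR ha i) (by positivity)
  have h3 : (0 : ℤ) < c0 := by exact_mod_cast Nat.pos_of_ne_zero h0
  omega

omit H in
theorem cf_nonneg (i : Fin l) : 0 ≤ cf c (sr i) := by rw [cf_sr]; positivity

end Cfsg.Agent.H275.CS.Sharp
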